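import Mathlib

set_option autoImplicit false

namespace Cfsg.Agent.Pres

open FreeGroup (lift of map lift_apply_of lift_surjective_iff_closure_range_eq_top)

theorem lift_hom {X G H : Type*} [Group G] [Group H] (φ : G →* H) (f : X → G)
    (w : FreeGroup X) : lift (fun i => φ (f i)) w = φ (lift f w) := by
  symm
  exact FreeGroup.lift_unique (φ.comp (lift f)) (by intro x; simp)

/-- The family `π` generates `G`, subject to at most `r` defining relations. -/
def HasPres {G X : Type*} [Group G] (π : X → G) (r : ℕ) : Prop :=
  ∃ rels : Finset (FreeGroup X), rels.card ≤ r ∧ Function.Surjective (lift π) ∧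
    (lift π).ker = Subgroup.normalClosure (rels : Set (FreeGroup X))

variable {G X : Type*} [Group G] {π : X → G} {r : ℕ}

theorem HasPres.mono (h : HasPres π r) {r' : ℕ} (hr : r ≤ r') : HasPres π r' := by
  obtain ⟨R, h1, h2⟩ := h
  exact ⟨R, h1.trans hr, h2⟩

theorem HasPres.closure_eq_top (h : HasPres π r) : Subgroup.closure (Set.range π) = ⊤ := by
  obtain ⟨R, -, h2, -⟩ := h
  exact lift_surjective_iff_closure_range_eq_top.mp h2

theorem HasPres.exists_equiv (h : HasPres π r) :
    ∃ rels : Finset (FreeGroup X), rels.card ≤ r ∧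
      ∃ e : PresentedGroup (rels : Set (FreeGroup X)) ≃* G, ∀ x, e (PresentedGroup.of x) = π x := by
  obtain ⟨R, h1, h2, h3⟩ := h
  have hR : ∀ w ∈ (R : Set (FreeGroup X)), lift π w = 1 := by
    intro w hw
    rw [← MonoidHom.mem_ker, h3]
    exact Subgroup.subset_normalClosure hw
  have hmk : ∀ w, PresentedGroup.toGroup hR (PresentedGroup.mk _ w) = lift π w := fun w => rfl
  refine ⟨R, h1, MulEquiv.ofBijective (PresentedGroup.toGroup hR) ⟨?_, ?_⟩, ?_⟩
  · rw [injective_iff_map_eq_one]
    intro a ha
    obtain ⟨w, rfl⟩ := PresentedGroup.mk_surjective _ a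
    rw [hmk, ← MonoidHom.mem_ker, h3] at ha
    exact PresentedGroup.mk_eq_one_iff.mpr ha
  · intro g
    obtain ⟨w, rfl⟩ := h2 g
    exact ⟨PresentedGroup.mk _ w, hmk w⟩
  · intro x
    exact PresentedGroup.toGroup.of hR

theorem lift_of_eq_mk (R : Set (FreeGroup X)) (w : FreeGroup X) :
    lift (PresentedGroup.of (rels := R)) w = PresentedGroup.mk R w := by
  symm
  exact FreeGroup.lift_unique (PresentedGroup.mk R) (fun x => rfl)

/-- A presentation is established by bounding the order of every group generated by a family
satisfying the relations. -/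
theorem HasPres.of_card.{u} {X : Type u} {π : X → G} [Finite G] (L : List (FreeGroup X))
    (hgen : Subgroup.closure (Set.range π) = ⊤) (hrel : ∀ w ∈ L, lift π w = 1)
    (hJ : ∀ (J : Type u) [Group J] (f : X → J), Subgroup.closure (Set.range f) = ⊤ →
      (∀ w ∈ L, lift f w = 1) → Finite J ∧ Nat.card J ≤ Nat.card G) :
    HasPres π L.length := by
  classical
  have hsurj := lift_surjective_iff_closure_range_eq_top.mpr hgen
  refine ⟨L.toFinset, List.toFinset_card_le L, hsurj, ?_⟩
  have hR : ∀ w ∈ (L.toFinset : Set (FreeGroup X)), lift π w = 1 := by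
    intro w hw
    exact hrel w (by simpa using hw)
  have hmk : ∀ w, PresentedGroup.toGroup hR (PresentedGroup.mk _ w) = lift π w := fun w => rfl
  obtain ⟨hfin, hle⟩ := hJ (PresentedGroup (L.toFinset : Set (FreeGroup X))) PresentedGroup.of
    (PresentedGroup.closure_range_of _) (by
      intro w hw
      rw [lift_of_eq_mk]
      exact PresentedGroup.one_of_mem (by simpa using hw))
  have hs : Function.Surjective (PresentedGroup.toGroup hR) := by
    intro g
    obtain ⟨w, rfl⟩ := hsurj g
    exact ⟨PresentedGroup.mk _ w, hmk w⟩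
  have hb := hs.bijective_of_nat_card_le hle
  apply le_antisymm
  · intro w hw
    rw [MonoidHom.mem_ker, ← hmk, ← map_one (PresentedGroup.toGroup hR)] at hw
    exact PresentedGroup.mk_eq_one_iff.mp (hb.1 hw)
  · exact Subgroup.normalClosure_le_normal hR

/-- The universal property. -/
theorem HasPres.exists_hom (h : HasPres π r) :
    ∃ L : List (FreeGroup X), L.length ≤ r ∧ (∀ w ∈ L, lift π w = 1) ∧
      ∀ (J : Type*) [Group J] (f : X → J), (∀ w ∈ L, lift f w = 1) →
        ∃ ι : G →* J, ∀ x, ι (π x) = f x := by
  obtain ⟨R, h1, e, he⟩ := h.exists_equiv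
  refine ⟨R.toList, by simpa using h1, ?_, ?_⟩
  · intro w hw
    have : π = fun x => e.toMonoidHom (PresentedGroup.of x) := by funext x; simp [he]
    rw [this, lift_hom, lift_of_eq_mk, PresentedGroup.one_of_mem (by simpa using hw), map_one]
  · intro J _ f hf
    have hR : ∀ w ∈ (R : Set (FreeGroup X)), lift f w = 1 := fun w hw => hf w (by simpa using hw)
    refine ⟨(PresentedGroup.toGroup hR).comp e.symm.toMonoidHom, fun x => ?_⟩
    rw [← he]
    simp

/-- Tietze transformations: change of the generating family. -/
theorem HasPres.tietze (h : HasPres π r) {Y : Type*} (ρ : Y → G) (α : X → FreeGroup Y)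
    (β : Y → FreeGroup X) (hα : ∀ x, lift ρ (α x) = π x) (hβ : ∀ y, lift π (β y) = ρ y)
    (S : Finset Y) (hS : ∀ y, y ∉ S → lift α (β y) = of y) : HasPres ρ (r + S.card) := by
  classical
  obtain ⟨R, h1, h2, h3⟩ := h
  have hα' : ∀ w, lift ρ (lift α w) = lift π w := by
    intro w; rw [← lift_hom]; simp only [hα]
  have hβ' : ∀ w, lift π (lift β w) = lift ρ w := by
    intro w; rw [← lift_hom]; simp only [hβ]
  refine ⟨R.image (lift α) ∪ S.image (fun y => (of y)⁻¹ * lift α (β y)), ?_, ?_, ?_⟩
  · exact (Finset.card_union_le _ _).trans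
      (Nat.add_le_add (Finset.card_image_le.trans h1) Finset.card_image_le)
  · intro g
    obtain ⟨w, rfl⟩ := h2 g
    exact ⟨lift α w, hα' w⟩
  · set N := Subgroup.normalClosure ((R.image (lift α) ∪
      S.image (fun y => (of y)⁻¹ * lift α (β y)) : Finset _) : Set (FreeGroup Y)) with hN
    apply le_antisymm
    · intro u hu
      have h4 : (QuotientGroup.mk' N).comp ((lift α).comp (lift β)) = QuotientGroup.mk' N := by
        ext y
        simp only [MonoidHom.comp_apply, lift_apply_of, QuotientGroup.mk'_apply]
        by_cases hy : y ∈ S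
        · symm
          rw [QuotientGroup.eq]
          apply Subgroup.subset_normalClosure
          simp only [Finset.coe_union, Finset.coe_image]
          exact Or.inr ⟨y, hy, rfl⟩
        · rw [hS y hy]
      have h5 : lift β u ∈ Subgroup.normalClosure (R : Set (FreeGroup X)) := by
        rw [← h3, MonoidHom.mem_ker, hβ']; exact hu
      have h6 : Subgroup.normalClosure (R : Set (FreeGroup X)) ≤ N.comap (lift α) := by
        apply Subgroup.normalClosure_le_normal
        intro w hw
        apply Subgroup.subset_normalClosure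
        simp only [Finset.coe_union, Finset.coe_image]
        exact Or.inl ⟨w, hw, rfl⟩
      have h7 := DFunLike.congr_fun h4 u
      simp only [MonoidHom.comp_apply, QuotientGroup.mk'_apply] at h7
      rw [← QuotientGroup.eq_one_iff, ← h7, QuotientGroup.eq_one_iff]
      exact h6 h5
    · apply Subgroup.normalClosure_le_normal
      intro w hw
      simp only [Finset.coe_union, Finset.coe_image] at hw
      rcases hw with ⟨v, hv, rfl⟩ | ⟨y, -, rfl⟩
      · change lift ρ (lift α v) = 1
        rw [hα', ← MonoidHom.mem_ker, h3]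
        exact Subgroup.subset_normalClosure hv
      · change lift ρ ((of y)⁻¹ * lift α (β y)) = 1
        rw [map_mul, map_inv, hα', hβ, lift_apply_of, inv_mul_cancel]

/-- Any finite generating family costs at most one more relation per generator. -/
theorem HasPres.change (h : HasPres π r) {Y : Type*} [Fintype Y] (ρ : Y → G)
    (hρ : Subgroup.closure (Set.range ρ) = ⊤) : HasPres ρ (r + Fintype.card Y) := by
  have h1 := lift_surjective_iff_closure_range_eq_top.mpr hρ
  have h2 := lift_surjective_iff_closure_range_eq_top.mpr h.closure_eq_top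
  choose α hα using fun x => h1 (π x)
  choose β hβ using fun y => h2 (ρ y)
  exact h.tietze ρ α β hα hβ Finset.univ (by simp)

/-- New generators which are among the old ones cost nothing. -/
theorem HasPres.change_of_common (h : HasPres π r) {Y : Type*} (ρ : Y → G)
    (hρ : Subgroup.closure (Set.range ρ) = ⊤) (S : Finset Y) (c : {y // y ∉ S} → X)
    (hc : Function.Injective c) (hcπ : ∀ y, π (c y) = ρ y) : HasPres ρ (r + S.card) := by
  classical
  have h1 := lift_surjective_iff_closure_range_eq_top.mpr hρ
  have h2 := lift_surjective_iff_closure_range_eq_top.mpr h.closure_eq_top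
  choose α hα using fun x => h1 (π x)
  choose β hβ using fun y => h2 (ρ y)
  refine h.tietze ρ (fun x => if hx : ∃ y, c y = x then of hx.choose.1 else α x)
    (fun y => if hy : y ∈ S then β y else of (c ⟨y, hy⟩)) ?_ ?_ S ?_
  · intro x
    split_ifs with hx
    · rw [lift_apply_of, ← hcπ, hx.choose_spec]
    · exact hα x
  · intro y
    split_ifs with hy
    · exact hβ y
    · rw [lift_apply_of, hcπ]
  · intro y hy
    rw [dif_neg hy, lift_apply_of]
    have hx : ∃ y', c y' = c ⟨y, hy⟩ := ⟨_, rfl⟩
    rw [dif_pos hx, hc hx.choose_spec]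

theorem HasPres.reindex (h : HasPres π r) {Y : Type*} (e : Y ≃ X) : HasPres (π ∘ e) r := by
  have := h.change_of_common (π ∘ e) (by rw [e.surjective.range_comp, h.closure_eq_top]) ∅
    (fun y => e y.1) (fun a b hab => Subtype.ext (e.injective hab)) (fun y => rfl)
  simpa using this

theorem HasPres.map_equiv (h : HasPres π r) {G' : Type*} [Group G'] (e : G ≃* G') :
    HasPres (fun x => e (π x)) r := by
  obtain ⟨R, h1, h2, h3⟩ := h
  have : lift (fun x => e (π x)) = e.toMonoidHom.comp (lift π) := by ext x; simp
  refine ⟨R, h1, ?_, ?_⟩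
  · rw [this]; exact e.surjective.comp h2
  · rw [this, ← h3]
    ext w
    simp [MonoidHom.mem_ker]

theorem lift_map {X Y J : Type*} [Group J] (f : Y → J) (g : X → Y) (w : FreeGroup X) :
    lift f (map g w) = lift (fun x => f (g x)) w :=
  FreeGroup.lift_unique ((lift f).comp (map g)) (by simp)

theorem closure_insert_range {H J : Type*} [Group H] [Group J] {π : X → H}
    (h : Subgroup.closure (Set.range π) = ⊤) (ι : H →* J) (Y : J) :
    Subgroup.closure (insert Y (Set.range ι)) =
      Subgroup.closure (Set.range (fun o : Option X => o.elim Y (fun x => ι (π x)))) := by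
  apply le_antisymm
  · rw [Subgroup.closure_le]
    rintro _ (rfl | ⟨x, rfl⟩)
    · exact Subgroup.subset_closure ⟨none, rfl⟩
    · have : x ∈ Subgroup.comap ι (Subgroup.closure
          (Set.range (fun o : Option X => o.elim Y (fun x => ι (π x))))) := by
        have hx : x ∈ Subgroup.closure (Set.range π) := by rw [h]; trivial
        refine (Subgroup.closure_le _).mpr ?_ hx
        rintro _ ⟨y, rfl⟩
        exact Subgroup.subset_closure ⟨some y, rfl⟩
      exact this
  · apply Subgroup.closure_mono
    rintro _ ⟨_ | x, rfl⟩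
    · exact Or.inl rfl
    · exact Or.inr ⟨_, rfl⟩

theorem lift_extend_aux {H J : Type*} [Group H] [Group J] {π : X → H} {s : H → FreeGroup X}
    (hs : ∀ x, lift π (s x) = x) (ι : H →* J) (Y : J) (w : FreeGroup (Option H)) :
    lift (fun o : Option X => o.elim Y (fun x => ι (π x)))
      (lift (fun o : Option H => o.elim (of none) (fun x => map some (s x))) w) =
        lift (fun o : Option H => o.elim Y ι) w := by
  rw [← lift_hom]
  congr 2
  funext o
  rcases o with _ | x
  · simp
  · simp only [Option.elim_some, lift_map]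
    rw [lift_hom, hs]

/-- Adjoining one generator to a presented group. -/
theorem HasPres.extend.{u} {X : Type u} {H : Type*} [Group H] {π : X → H} [Finite G]
    (h : HasPres π r) (j : H →* G) (σ : G) (W : List (FreeGroup (Option H)))
    (hgen : Subgroup.closure (insert σ (Set.range j)) = ⊤)
    (hW : ∀ w ∈ W, lift (fun o : Option H => o.elim σ j) w = 1)
    (hJ : ∀ (J : Type u) [Group J] (ι : H →* J) (Y : J),
      Subgroup.closure (insert Y (Set.range ι)) = ⊤ →
      (∀ w ∈ W, lift (fun o : Option H => o.elim Y ι) w = 1) →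
        Finite J ∧ Nat.card J ≤ Nat.card G) :
    HasPres (fun o : Option X => o.elim σ (fun x => j (π x))) (r + W.length) := by
  obtain ⟨L, hL1, hL2, hL3⟩ := h.exists_hom.{_, _, u}
  have hsurj := lift_surjective_iff_closure_range_eq_top.mpr h.closure_eq_top
  choose s hs using hsurj
  let τ : FreeGroup (Option H) →* FreeGroup (Option X) :=
    lift (fun o => o.elim (of none) (fun x => map some (s x)))
  refine (HasPres.of_card (L.map (map some) ++ W.map τ) ?_ ?_ ?_).mono (by simpa using hL1)
  · rw [← closure_insert_range h.closure_eq_top, hgen]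
  · intro w hw
    rcases List.mem_append.mp hw with hw | hw
    · obtain ⟨v, hv, rfl⟩ := List.mem_map.mp hw
      rw [lift_map]
      simp only [Option.elim_some]
      rw [lift_hom, hL2 v hv, map_one]
    · obtain ⟨v, hv, rfl⟩ := List.mem_map.mp hw
      rw [lift_extend_aux hs, hW v hv]
  · intro J _ f hf hrel
    obtain ⟨ι, hι⟩ := hL3 J (fun x => f (some x)) (by
      intro w hw
      rw [← lift_map]
      exact hrel _ (List.mem_append_left _ (List.mem_map_of_mem hw)))
    have hf' : f = fun o : Option X => o.elim (f none) (fun x => ι (π x)) := by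
      funext o
      rcases o with _ | x <;> simp [hι]
    apply hJ J ι (f none)
    · rw [closure_insert_range h.closure_eq_top, ← hf', hf]
    · intro w hw
      rw [← lift_extend_aux hs, ← hf']
      exact hrel _ (List.mem_append_right _ (List.mem_map_of_mem hw))

end Cfsg.Agent.Pres
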