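import Cfsg.Agent.Lib.Pres.Ext

/-!
# Presentations obtained by gluing two presented groups
-/

set_option autoImplicit false

namespace Cfsg.Agent.Pres

open FreeGroup (lift of map lift_apply_of lift_surjective_iff_closure_range_eq_top)
open Monoid

theorem hasPres_free (X : Type*) : HasPres (of : X → FreeGroup X) 0 := by
  have : lift (of : X → FreeGroup X) = MonoidHom.id _ := by ext; simp
  refine ⟨∅, le_rfl, ?_, ?_⟩ <;> rw [this]
  · exact Function.surjective_id
  · simp

theorem HasPres.coprod {X Y H K : Type*} [Group H] [Group K] {π : X → H} {ρ : Y → K} {r s : ℕ}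
    (h : HasPres π r) (h' : HasPres ρ s) :
    HasPres (Sum.elim (fun x => Coprod.inl (π x)) (fun y => Coprod.inr (ρ y)) :
      X ⊕ Y → Coprod H K) (r + s) := by
  classical
  obtain ⟨L, a1, a2, a3⟩ := h.exists_hom
  obtain ⟨L', b1, b2, b3⟩ := h'.exists_hom
  set R := (L.map (map Sum.inl) ++ L'.map (map Sum.inr) : List (FreeGroup (X ⊕ Y))).toFinset
  refine ⟨R, (List.toFinset_card_le _).trans (by simpa using Nat.add_le_add a1 b1), ?_, ?_⟩
  · rw [lift_surjective_iff_closure_range_eq_top, eq_top_iff, ← Coprod.range_inl_sup_range_inr]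
    refine sup_le ?_ ?_
    · rw [MonoidHom.range_eq_map, ← h.closure_eq_top, MonoidHom.map_closure]
      exact Subgroup.closure_mono (by rintro _ ⟨_, ⟨x, rfl⟩, rfl⟩; exact ⟨.inl x, rfl⟩)
    · rw [MonoidHom.range_eq_map, ← h'.closure_eq_top, MonoidHom.map_closure]
      exact Subgroup.closure_mono (by rintro _ ⟨_, ⟨x, rfl⟩, rfl⟩; exact ⟨.inr x, rfl⟩)
  · apply le_antisymm
    · obtain ⟨ι, hι⟩ := a3 (PresentedGroup (R : Set (FreeGroup (X ⊕ Y))))
        (fun x => PresentedGroup.of (.inl x)) fun w hw => by
          rw [← lift_map, lift_of_eq_mk]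
          exact PresentedGroup.one_of_mem (by
            simp only [R, List.coe_toFinset, Set.mem_ofPred_eq]
            exact List.mem_append_left _ (List.mem_map_of_mem hw))
      obtain ⟨κ, hκ⟩ := b3 (PresentedGroup (R : Set (FreeGroup (X ⊕ Y))))
        (fun x => PresentedGroup.of (.inr x)) fun w hw => by
          rw [← lift_map, lift_of_eq_mk]
          exact PresentedGroup.one_of_mem (by
            simp only [R, List.coe_toFinset, Set.mem_ofPred_eq]
            exact List.mem_append_right _ (List.mem_map_of_mem hw))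
      intro w hw
      rw [← PresentedGroup.mk_eq_one_iff, ← lift_of_eq_mk]
      have := congrArg (Coprod.lift ι κ) (MonoidHom.mem_ker.1 hw)
      rw [← lift_hom, map_one] at this
      convert this using 3
      funext o
      rcases o with x | x <;> simp [hι, hκ]
    · apply Subgroup.normalClosure_le_normal
      intro w hw
      simp only [R, List.coe_toFinset, Set.mem_ofPred_eq, List.mem_append, List.mem_map] at hw
      rcases hw with ⟨v, hv, rfl⟩ | ⟨v, hv, rfl⟩ <;>
        rw [SetLike.mem_coe, MonoidHom.mem_ker, lift_map]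
      · simp only [Sum.elim_inl]; rw [lift_hom, a2 v hv, map_one]
      · simp only [Sum.elim_inr]; rw [lift_hom, b2 v hv, map_one]

/-- A surjection from a presented group, with relations given as memberships. -/
theorem HasPres.cover.{u} {X G : Type*} {H : Type u} [Group H] [Group G] {π : X → H} {r : ℕ}
    (h : HasPres π r) (l : H →* G) (hl : Function.Surjective l) (R : List (H × Set H))
    (hR : ∀ x ∈ R, ∃ s ∈ x.2, l x.1 = l s)
    (hJ : ∀ (J : Type u) [Group J] (ψ : H →* J) (φ : J →* G), Function.Surjective ψ →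
      (∀ x, φ (ψ x) = l x) → (∀ x ∈ R, ∃ s ∈ x.2, ψ x.1 = ψ s) → Function.Injective φ) :
    HasPres (fun x => l (π x)) (r + R.length) := by
  classical
  choose! s hs1 hs2 using hR
  set Z := (R.map fun x => x.1⁻¹ * s x).toFinset
  set N := Subgroup.normalClosure (Z : Set H)
  have hN : N ≤ l.ker := Subgroup.normalClosure_le_normal fun w hw => by
    simp only [Z, List.coe_toFinset, Set.mem_ofPred_eq, List.mem_map] at hw
    obtain ⟨x, hx, rfl⟩ := hw
    simp [MonoidHom.mem_ker, hs2 x hx]
  refine (h.quotient l hl Z (le_antisymm (fun w hw => ?_) hN)).mono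
    (Nat.add_le_add_left ((List.toFinset_card_le _).trans (by simp)) _)
  have := hJ (H ⧸ N) (QuotientGroup.mk' N) (QuotientGroup.lift N l hN)
    (QuotientGroup.mk'_surjective _) (fun _ => rfl) fun x hx => ⟨s x, hs1 x hx, by
      rw [QuotientGroup.mk'_apply, QuotientGroup.mk'_apply, QuotientGroup.eq]
      exact Subgroup.subset_normalClosure (by
        simp only [Z, List.coe_toFinset, Set.mem_ofPred_eq]; exact List.mem_map_of_mem hx)⟩
  exact (QuotientGroup.eq_one_iff w).1 (this (a₂ := 1) (by rw [map_one]; exact hw))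

/-- reformulation with the number of generators only -/
def PresN (G : Type*) [Group G] (g r : ℕ) : Prop := ∃ π : Fin g → G, HasPres π r

theorem HasPres.pres {X G : Type*} [Group G] [Fintype X] {π : X → G} {r : ℕ} (h : HasPres π r)
    {g r' : ℕ} (hg : Fintype.card X ≤ g) (hr : r + (g - Fintype.card X) ≤ r') : PresN G g r' :=
  let ⟨ρ, h⟩ := h.pad hg; ⟨ρ, h.mono hr⟩

namespace PresN

variable {G : Type*} [Group G] {g r : ℕ}

theorem mono (h : PresN G g r) {g' r' : ℕ} (hg : g ≤ g') (hr : r + (g' - g) ≤ r') : PresN G g' r' :=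
  let ⟨_, h⟩ := h; h.pres (by simpa) (by simpa)

theorem equiv (h : PresN G g r) {G' : Type*} [Group G'] (e : G ≃* G') : PresN G' g r :=
  let ⟨_, h⟩ := h; ⟨_, h.map_equiv e⟩

theorem center (h : PresN G g r) [IsCyclic (Subgroup.center G)] :
    PresN (G ⧸ Subgroup.center G) g (r + 1) := let ⟨_, h⟩ := h; ⟨_, h.quotient_center⟩

theorem nonempty (h : PresN G g r) : ∃ rels : Finset (FreeGroup (Fin g)), rels.card ≤ r ∧
    Nonempty (PresentedGroup (rels : Set (FreeGroup (Fin g))) ≃* G) :=
  let ⟨_, h⟩ := h; h.nonempty le_rfl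

theorem two (h : PresN G g r) {a b : G} (hab : Subgroup.closure {a, b} = ⊤) : PresN G 2 (r + 2) := by
  obtain ⟨_, h⟩ := h
  exact ⟨![a, b], by simpa using h.change ![a, b] (by simpa [Set.pair_comm] using hab)⟩

end PresN

end Cfsg.Agent.Pres
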