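import Cfsg.Agent.Lib.Pres.Basic

/-!
# More on presentations: several new generators, padding, quotients
-/

set_option autoImplicit false

namespace Cfsg.Agent.Pres

open FreeGroup (lift of map lift_apply_of lift_surjective_iff_closure_range_eq_top)

variable {G X : Type*} [Group G] {π : X → G} {r : ℕ}

theorem closure_range_union {H J Y : Type*} [Group H] [Group J] {π : X → H}
    (h : Subgroup.closure (Set.range π) = ⊤) (ι : H →* J) (y : Y → J) :
    Subgroup.closure (Set.range ι ∪ Set.range y) =
      Subgroup.closure (Set.range (Sum.elim (fun x => ι (π x)) y)) := by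
  apply le_antisymm
  · rw [Subgroup.closure_le]
    rintro _ (⟨x, rfl⟩ | ⟨x, rfl⟩)
    · have : x ∈ Subgroup.comap ι (Subgroup.closure
          (Set.range (Sum.elim (fun x => ι (π x)) y))) := by
        have hx : x ∈ Subgroup.closure (Set.range π) := by rw [h]; trivial
        refine (Subgroup.closure_le _).mpr ?_ hx
        rintro _ ⟨z, rfl⟩
        exact Subgroup.subset_closure ⟨.inl z, rfl⟩
      exact this
    · exact Subgroup.subset_closure ⟨.inr x, rfl⟩
  · apply Subgroup.closure_mono
    rintro _ ⟨x | x, rfl⟩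
    · exact Or.inl ⟨_, rfl⟩
    · exact Or.inr ⟨_, rfl⟩

theorem lift_extendN_aux {H J Y : Type*} [Group H] [Group J] {π : X → H} {s : H → FreeGroup X}
    (hs : ∀ x, lift π (s x) = x) (ι : H →* J) (y : Y → J) (w : FreeGroup (H ⊕ Y)) :
    lift (Sum.elim (fun x => ι (π x)) y)
      (lift (Sum.elim (fun x => map Sum.inl (s x)) (fun z => of (Sum.inr z))) w) =
        lift (Sum.elim ι y) w := by
  rw [← lift_hom]
  congr 2
  funext o
  rcases o with x | x
  · simp only [Sum.elim_inl, lift_map]
    rw [lift_hom, hs]
  · simp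

/-- Adjoining a family of generators to a presented group. -/
theorem HasPres.extendN.{u} {X Y : Type u} {H : Type*} [Group H] {π : X → H} [Finite G]
    (h : HasPres π r) (j : H →* G) (σ : Y → G) (W : List (FreeGroup (H ⊕ Y)))
    (hgen : Subgroup.closure (Set.range j ∪ Set.range σ) = ⊤)
    (hW : ∀ w ∈ W, lift (Sum.elim j σ) w = 1)
    (hJ : ∀ (J : Type u) [Group J] (ι : H →* J) (y : Y → J),
      Subgroup.closure (Set.range ι ∪ Set.range y) = ⊤ →
      (∀ w ∈ W, lift (Sum.elim ι y) w = 1) → Finite J ∧ Nat.card J ≤ Nat.card G) :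
    HasPres (Sum.elim (fun x => j (π x)) σ) (r + W.length) := by
  obtain ⟨L, hL1, hL2, hL3⟩ := h.exists_hom.{_, _, u}
  have hsurj := lift_surjective_iff_closure_range_eq_top.mpr h.closure_eq_top
  choose s hs using hsurj
  let τ : FreeGroup (H ⊕ Y) →* FreeGroup (X ⊕ Y) :=
    lift (Sum.elim (fun x => map Sum.inl (s x)) (fun z => of (Sum.inr z)))
  refine (HasPres.of_card (L.map (map Sum.inl) ++ W.map τ) ?_ ?_ ?_).mono (by simpa using hL1)
  · rw [← closure_range_union h.closure_eq_top, hgen]
  · intro w hw
    rcases List.mem_append.mp hw with hw | hw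
    · obtain ⟨v, hv, rfl⟩ := List.mem_map.mp hw
      rw [lift_map]
      simp only [Sum.elim_inl]
      rw [lift_hom, hL2 v hv, map_one]
    · obtain ⟨v, hv, rfl⟩ := List.mem_map.mp hw
      rw [lift_extendN_aux hs, hW v hv]
  · intro J _ f hf hrel
    obtain ⟨ι, hι⟩ := hL3 J (fun x => f (.inl x)) (by
      intro w hw
      rw [← lift_map]
      exact hrel _ (List.mem_append_left _ (List.mem_map_of_mem hw)))
    have hf' : f = Sum.elim (fun x => ι (π x)) (fun z => f (.inr z)) := by
      funext o
      rcases o with x | x <;> simp [hι]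
    apply hJ J ι (fun z => f (.inr z))
    · rw [closure_range_union h.closure_eq_top, ← hf', hf]
    · intro w hw
      rw [← lift_extendN_aux hs, ← hf']
      exact hrel _ (List.mem_append_right _ (List.mem_map_of_mem hw))

/-- Padding with trivial generators. -/
theorem HasPres.pad [Fintype X] (h : HasPres π r) {k : ℕ} (hk : Fintype.card X ≤ k) :
    ∃ ρ : Fin k → G, HasPres ρ (r + (k - Fintype.card X)) := by
  classical
  obtain ⟨e⟩ : Nonempty (X ↪ Fin k) := Function.Embedding.nonempty_of_card_le (by simpa using hk)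
  have key : ∀ y : {y // y ∉ (Finset.univ.map e)ᶜ}, ∃ x, e x = y.1 := fun y => by
    simpa using y.2
  choose c hc using key
  refine ⟨Function.extend e π 1, (h.change_of_common _ ?_ (Finset.univ.map e)ᶜ c ?_ ?_).mono ?_⟩
  · rw [eq_top_iff, ← h.closure_eq_top]
    apply Subgroup.closure_mono
    rintro _ ⟨x, rfl⟩
    exact ⟨e x, e.injective.extend_apply _ _ _⟩
  · intro a b hab
    exact Subtype.ext (by rw [← hc, ← hc, hab])
  · intro y
    rw [← hc, e.injective.extend_apply]
  · simp [Finset.card_compl]

/-- A quotient by the normal closure of a list of elements. -/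
theorem HasPres.quotient (h : HasPres π r) {G' : Type*} [Group G'] (φ : G →* G')
    (hφ : Function.Surjective φ) (Z : Finset G)
    (hZ : φ.ker = Subgroup.normalClosure (Z : Set G)) :
    HasPres (fun x => φ (π x)) (r + Z.card) := by
  classical
  obtain ⟨R, h1, h2, h3⟩ := h
  have e : lift (fun x => φ (π x)) = φ.comp (lift π) := by ext x; simp
  choose s hs using h2
  refine ⟨R ∪ Z.image s, (Finset.card_union_le _ _).trans
    (Nat.add_le_add h1 Finset.card_image_le), ?_, ?_⟩
  · rw [e]; exact hφ.comp fun g => ⟨s g, hs g⟩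
  · rw [e, ← MonoidHom.comap_ker, hZ]
    set N := Subgroup.normalClosure ((R ∪ Z.image s : Finset _) : Set (FreeGroup X))
    have hR : (lift π).ker ≤ N := by
      rw [h3]; exact Subgroup.normalClosure_mono (by simp)
    apply le_antisymm
    · rw [← Subgroup.comap_map_eq_self hR]
      apply Subgroup.comap_mono
      have : (N.map (lift π)).Normal := Subgroup.Normal.map inferInstance _ fun g => ⟨s g, hs g⟩
      apply Subgroup.normalClosure_le_normal
      intro z hz
      exact ⟨s z, Subgroup.subset_normalClosure (by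
        simp only [Finset.coe_union, Finset.coe_image]; exact Or.inr ⟨z, hz, rfl⟩), hs z⟩
    · apply Subgroup.normalClosure_le_normal
      intro w hw
      simp only [Finset.coe_union, Finset.coe_image] at hw
      rcases hw with hw | ⟨z, hz, rfl⟩
      · have : w ∈ (lift π).ker := h3 ▸ Subgroup.subset_normalClosure hw
        rw [SetLike.mem_coe, Subgroup.mem_comap, (MonoidHom.mem_ker).1 this]
        exact one_mem _
      · rw [SetLike.mem_coe, Subgroup.mem_comap, hs]
        exact Subgroup.subset_normalClosure hz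

/-- The quotient by a cyclic centre costs one relation. -/
theorem HasPres.quotient_center (h : HasPres π r) [IsCyclic (Subgroup.center G)] :
    HasPres (fun x => (QuotientGroup.mk (π x) : G ⧸ Subgroup.center G)) (r + 1) := by
  obtain ⟨z, hz⟩ := IsCyclic.exists_generator (α := Subgroup.center G)
  refine h.quotient (QuotientGroup.mk' _) (QuotientGroup.mk'_surjective _) {z.1} ?_
  rw [QuotientGroup.ker_mk']
  apply le_antisymm
  · intro g hg
    obtain ⟨k, hk⟩ := hz ⟨g, hg⟩
    have : g = z.1 ^ k := by simpa using (congrArg Subtype.val hk).symm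
    rw [this]
    exact zpow_mem (Subgroup.subset_normalClosure (by simp)) k
  · exact Subgroup.normalClosure_le_normal (by simp)

theorem HasPres.nonempty (h : HasPres π r) {r' : ℕ} (hr : r ≤ r') :
    ∃ rels : Finset (FreeGroup X), rels.card ≤ r' ∧
      Nonempty (PresentedGroup (rels : Set (FreeGroup X)) ≃* G) := by
  obtain ⟨R, h1, e, -⟩ := (h.mono hr).exists_equiv
  exact ⟨R, h1, ⟨e⟩⟩

theorem hasPres_of_equiv (R : Finset (FreeGroup X))
    (e : PresentedGroup (R : Set (FreeGroup X)) ≃* G) :
    HasPres (fun x => e (PresentedGroup.of x)) R.card := by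
  refine HasPres.map_equiv (π := PresentedGroup.of) ⟨R, le_rfl, ?_, ?_⟩ e
  · intro g
    obtain ⟨w, rfl⟩ := PresentedGroup.mk_surjective _ g
    exact ⟨w, lift_of_eq_mk _ w⟩
  · ext w
    rw [MonoidHom.mem_ker, lift_of_eq_mk, PresentedGroup.mk_eq_one_iff]

/-- A word in the conjugates of one generator. -/
theorem exists_mem_normalClosure {Y : Type*} (f : Y → G) (hf : Subgroup.closure (Set.range f) = ⊤)
    (S : Set Y) (hy : Subgroup.normalClosure (f '' S) = ⊤) (g : G) :
    ∃ ω : FreeGroup Y, lift f ω = g ∧ ∀ (J : Type*) [Group J] (f' : Y → J),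
      lift f' ω ∈ Subgroup.normalClosure (f' '' S) := by
  have hs := lift_surjective_iff_closure_range_eq_top.mpr hf
  have : ((Subgroup.normalClosure (of '' S)).map (lift f)).Normal :=
    Subgroup.Normal.map inferInstance _ hs
  have h1 : Subgroup.normalClosure (f '' S) ≤ (Subgroup.normalClosure (of '' S)).map (lift f) := by
    apply Subgroup.normalClosure_le_normal
    rintro _ ⟨y, hy, rfl⟩
    exact ⟨of y, Subgroup.subset_normalClosure ⟨y, hy, rfl⟩, by simp⟩
  obtain ⟨ω, h2, h3⟩ := h1 (hy ▸ Subgroup.mem_top g)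
  refine ⟨ω, h3, fun J _ f' => ?_⟩
  have h4 : Subgroup.normalClosure (of '' S) ≤
      (Subgroup.normalClosure (f' '' S)).comap (lift f') := by
    apply Subgroup.normalClosure_le_normal
    rintro _ ⟨y, hy, rfl⟩
    rw [SetLike.mem_coe, Subgroup.mem_comap, lift_apply_of]
    exact Subgroup.subset_normalClosure ⟨y, hy, rfl⟩
  exact h4 h2

end Cfsg.Agent.Pres
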